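import Cfsg.Agent.H261.DG.InvGen
import Cfsg.Agent.H440.TwoGen.CoxInst
import Cfsg.Agent.H440.TwoGen.MonsterM
import Cfsg.Agent.H891.DG.Tools

/-!
# `Coh` for the Baby Monster and the Monster (helper261)
-/

set_option autoImplicit false

namespace Cfsg.Agent.H261.DG.BM

open Equiv Equiv.Perm Subgroup
open Cfsg.Agent.H440.TwoGen Cfsg.Agent.H891.Gen Cfsg.Agent.H891.DG

universe u

/-- A generating pair containing an involution. -/
def InvPair (G : Type*) [Group G] : Prop := ∃ X Y : G, X ^ 2 = 1 ∧ X ≠ 1 ∧ closure ({X, Y} : Set G) = ⊤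

theorem InvPair.of_equiv {G H : Type*} [Group G] [Group H] (e : G ≃* H) (h : InvPair G) : InvPair H := by
  obtain ⟨X, Y, h1, h2, h3⟩ := h
  refine ⟨e X, e Y, by rw [← map_pow, h1, map_one], fun h => h2 (e.injective (by rw [h, map_one])), ?_⟩
  have h4 : e.toMonoidHom '' {X, Y} = {e X, e Y} := Set.image_pair e.toMonoidHom X Y
  rw [← h4, ← MonoidHom.map_closure, h3, Subgroup.map_top_of_surjective e.toMonoidHom e.surjective]

/-- A commutative simple group has few derivations. -/
theorem coh_of_comm {T : Type u} [Group T] [Finite T] [IsSimpleGroup T] (h : IsMulCommutative T) : Coh T := by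
  obtain ⟨t, ht⟩ : ∃ t : T, ∀ x, x ∈ zpowers t := by
    have : IsCyclic T := by
      let _ : CommGroup T := { (inferInstance : Group T) with mul_comm := fun a b => h.is_comm.comm a b }
      exact IsSimpleGroup.isCyclic
    exact this.exists_generator
  intro p hp V _ _ _ hV _ hnt
  obtain ⟨g, v, hgv⟩ := hnt
  have h1 : 1 < Nat.card V := by
    have : Nontrivial V := ⟨⟨_, _, hgv⟩⟩
    exact Finite.one_lt_card
  have h2 : Nat.card {z : T → V // ∀ g h : T, z (g * h) = z g + g • z h} ≤ Nat.card V := by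
    refine Nat.card_le_card_of_injective (fun z => z.1 t) ?_
    intro z w hzw
    have h3 : ∀ n : ℕ, z.1 (t ^ n) = w.1 (t ^ n) := by
      have h1z : z.1 1 = 0 := by
        have := z.2 1 1
        rw [one_mul, one_smul] at this
        exact left_eq_add.1 this
      have h1w : w.1 1 = 0 := by
        have := w.2 1 1
        rw [one_mul, one_smul] at this
        exact left_eq_add.1 this
      intro n
      induction n with
      | zero => rw [pow_zero, h1z, h1w]
      | succ n ih =>
        rw [pow_succ, z.2, w.2, ih]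
        exact congrArg (fun x => w.1 (t ^ n) + t ^ n • x) hzw
    apply Subtype.ext
    funext x
    obtain ⟨n, rfl⟩ := (mem_powers_iff_mem_zpowers).2 (ht x)
    exact h3 n
  show _ < Nat.card V ^ 2
  rw [pow_two]
  nlinarith

section B

open Cfsg.Spor

/-- the third node of the arm commutes with the path -/
theorem b_aux : ∀ i < 8, coxLabel BabyMonster.edges (CoxInst.pB i) BabyMonster.Gen.t11 = 2 := by decide

theorem invPair_b [IsSimpleGroup BabyMonster] (hna : ¬ IsMulCommutative BabyMonster) : InvPair BabyMonster := by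
  have hnode : ∀ x : BabyMonster.Gen, x ∈ coxNodes BabyMonster.edges := by intro x; cases x <;> decide
  have hbr : ∀ i < 7, coxLabel BabyMonster.edges (CoxInst.pB i) (CoxInst.pB (i + 1)) = 3 := by decide
  have hcm : ∀ i < 8, ∀ j < 8, i + 1 < j → coxLabel BabyMonster.edges (CoxInst.pB i) (CoxInst.pB j) = 2 := by decide
  have hb : ∀ i < 8, coxLabel BabyMonster.edges (CoxInst.pB i) BabyMonster.Gen.t10 = 2 := by decide
  exact InvGen.exists_pair hna (n := 8) (by norm_num) (fun i => Cox.g _ _ (CoxInst.pB i))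
    (fun i _ => Cox.sq (hnode _))
    (fun i hi => Cox.braid (hnode _) (hnode _) (hbr i (by omega)))
    (fun i j hij hj => Cox.comm (hnode _) (hnode _) (hcm i (by omega) j hj hij))
    (a := Cox.g _ _ BabyMonster.Gen.t9) (b := Cox.g _ _ BabyMonster.Gen.t10) (c := Cox.g _ _ BabyMonster.Gen.t11)
    (Cox.sq (hnode _)) (Cox.sq (hnode _)) (Cox.sq (hnode _))
    (Cox.braid (hnode _) (hnode _) (by decide)) (Cox.braid (hnode _) (hnode _) (by decide))
    (Cox.comm (hnode _) (hnode _) (by decide))
    (fun i hi => Cox.comm (hnode _) (hnode _) (hb i hi))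
    (fun i hi => Cox.comm (hnode _) (hnode _) (b_aux i hi))
    (Cox.comm (hnode _) (hnode _) (by decide))
    (m := 8) (by decide) (by decide +kernel)
    (fun S h1 h2 h3 h4 => Cox.eq_top_of_forall S fun x => by
      have hall : x = BabyMonster.Gen.t9 ∨ x = BabyMonster.Gen.t10 ∨ x = BabyMonster.Gen.t11 ∨
          ∃ i < 8, x = CoxInst.pB i := by
        cases x <;> first | exact Or.inl rfl | exact Or.inr (Or.inl rfl) | exact Or.inr (Or.inr (Or.inl rfl)) | exact Or.inr (Or.inr (Or.inr (by decide)))
      rcases hall with rfl | rfl | rfl | ⟨i, hi, rfl⟩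
      · exact h1
      · exact h2
      · exact h3
      · exact h4 i hi)

end B

section M

open Cfsg.Agent.Bimonster

theorem invPair_m (hna : ¬ IsMulCommutative PM) : InvPair PM := by
  have := Cfsg.Agent.MonsterP.Equiv.simple
  have ht : CoxRel 14 xM := xM_prel.cox
  have hl : ∀ i < 11, Monster.pl i < 14 := by decide
  have hsq : ∀ i < 14, xM i * xM i = 1 := ht.sq
  have hadj1 : ∀ i < 10, adjB (Monster.pl i) (Monster.pl (i + 1)) = true := by decide
  have hadj2 : ∀ i < 11, ∀ j < 11, i + 1 < j → adjB (Monster.pl i) (Monster.pl j) = false := by decide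
  have hadj3 : ∀ i < 11, adjB (Monster.pl i) 12 = false := by decide
  have hadj4 : ∀ i < 11, adjB (Monster.pl i) 13 = false := by decide
  exact InvGen.exists_pair hna (n := 11) (by norm_num) (fun i => xM (Monster.pl i)) (fun i hi => hsq _ (hl i hi))
    (fun i hi => ht.br _ (hl i (by omega)) _ (hl (i + 1) hi) (hadj1 i (by omega)))
    (fun i j hij hj => ht.cm _ (hl i (by omega)) _ (hl j hj) (hadj2 i (by omega) j hj hij))
    (a := xM 11) (b := xM 12) (c := xM 13)
    (hsq 11 (by norm_num)) (hsq 12 (by norm_num)) (hsq 13 (by norm_num))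
    (ht.br 11 (by norm_num) 12 (by norm_num) (by decide)) (ht.br 12 (by norm_num) 13 (by norm_num) (by decide))
    (ht.cm 11 (by norm_num) 13 (by norm_num) (by decide))
    (fun i hi => ht.cm _ (hl i hi) 12 (by norm_num) (hadj3 i hi))
    (fun i hi => ht.cm _ (hl i hi) 13 (by norm_num) (hadj4 i hi))
    (ht.cm 11 (by norm_num) _ (hl 0 (by norm_num)) (by decide))
    (m := 11) (by decide) (by decide +kernel)
    (fun S h1 h2 h3 h4 => by
      rw [eq_top_iff, ← xM_gen, Subgroup.closure_le]
      rintro _ ⟨i, hi, rfl⟩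
      have hcase : ∀ i < 14, i = 11 ∨ i = 12 ∨ i = 13 ∨ ∃ j < 11, i = Monster.pl j := by decide
      rcases hcase i hi with rfl | rfl | rfl | ⟨j, hj, rfl⟩
      · exact h1
      · exact h2
      · exact h3
      · exact h4 j hj)

end M

/-! ### the goals -/

theorem coh_of_invPair {T : Type u} [Group T] [Finite T] [IsSimpleGroup T]
    (h : ¬ IsMulCommutative T → InvPair T) : Coh T := by
  by_cases hna : IsMulCommutative T
  · exact coh_of_comm hna
  · obtain ⟨X, Y, h1, h2, h3⟩ := h hna
    exact Cfsg.Agent.H891.DG.Tools.coh_of_involution hna h1 h2 h3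

/-- **the Baby Monster** -/
theorem coh_b {T : Type u} [Group T] [Finite T] [IsSimpleGroup T] (h : Cfsg.Spor.IsoB T) : Coh T := by
  obtain ⟨e⟩ := h
  refine coh_of_invPair fun hna => ?_
  have : IsSimpleGroup Cfsg.Spor.BabyMonster := e.symm.isSimpleGroup
  refine (invPair_b fun hc => hna ⟨⟨fun a b => e.injective ?_⟩⟩).of_equiv e.symm
  rw [map_mul, map_mul]
  exact hc.is_comm.comm _ _

/-- **the Monster** -/
theorem coh_m {T : Type u} [Group T] [Finite T] [IsSimpleGroup T] (h : Cfsg.Spor.IsoM T) : Coh T := by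
  obtain ⟨e⟩ := h
  obtain ⟨e'⟩ := Cfsg.Agent.MonsterP.Equiv.equivM
  refine coh_of_invPair fun hna => ?_
  refine (invPair_m fun hc => hna ⟨⟨fun a b => (e.trans e').injective ?_⟩⟩).of_equiv (e.trans e').symm
  rw [map_mul, map_mul]
  exact hc.is_comm.comm _ _

end Cfsg.Agent.H261.DG.BM
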