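import Cfsg.Agent.H440.TwoGen.Path

/-!
# An involution in a generating pair: groups generated by the nodes of a star diagram (helper261)

For a path `p 0, …, p (n-1)` and an arm `a, b, c` (`a` joined to an inner node of the path, not to `p 0`) the
elements `X = a * p 0` and `Y = σ * (b * c)`, where `σ` is the `n`-cycle `(1 2 … n)` in the symmetric group generated
by the path, generate a group containing `x * c` for all nodes `x`.
-/

set_option autoImplicit false

namespace Cfsg.Agent.H261.DG.InvGen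

open Equiv Equiv.Perm Subgroup
open Cfsg.Agent.H440.TwoGen Cfsg.Agent.H440.TwoGen.Path

variable {G : Type*} [Group G]

theorem core {n : ℕ} (hn : 2 ≤ n) (p : ℕ → G) (hsq : ∀ i < n, p i * p i = 1)
    (hbr : ∀ i, i + 1 < n → p i * p (i + 1) * p i = p (i + 1) * p i * p (i + 1))
    (hcm : ∀ i j, i + 1 < j → j < n → p i * p j = p j * p i)
    {a b c : G} (ha : a * a = 1) (hb : b * b = 1) (hc : c * c = 1)
    (hab : a * b * a = b * a * b) (hbc : b * c * b = c * b * c) (hac : a * c = c * a)
    (hbp : ∀ i < n, p i * b = b * p i) (hcp : ∀ i < n, p i * c = c * p i) (hap : a * p 0 = p 0 * a)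
    {m : ℕ} (hm : Nat.Coprime m 3)
    (hσ : (swap (0 : Fin (n + 1)) ⟨1, by omega⟩ * finRotate (n + 1)) ^ m = 1) :
    ∃ Y : G, a * c ∈ closure ({a * p 0, Y} : Set G) ∧ b * c ∈ closure ({a * p 0, Y} : Set G) ∧
      ∀ i < n, p i * c ∈ closure ({a * p 0, Y} : Set G) := by
  obtain ⟨φ, hφ⟩ := exists_hom n p hsq hbr hcm
  set σ : Perm (Fin (n + 1)) := swap (0 : Fin (n + 1)) ⟨1, by omega⟩ * finRotate (n + 1) with hσd
  obtain ⟨X, hX⟩ : ∃ X : G, X = a * p 0 := ⟨_, rfl⟩
  rw [← hX]
  refine ⟨φ σ * (b * c), ?_⟩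
  set S : Subgroup G := closure ({X, φ σ * (b * c)} : Set G) with hS
  have hXS : X ∈ S := subset_closure (Set.mem_insert _ _)
  have hYS : φ σ * (b * c) ∈ S := subset_closure (Set.mem_insert_of_mem _ (Set.mem_singleton _))
  have hφb : ∀ g, φ g * b = b * φ g := commute_range φ fun i => by rw [hφ]; exact hbp i i.isLt
  have hφc : ∀ g, φ g * c = c * φ g := commute_range φ fun i => by rw [hφ]; exact hcp i i.isLt
  have hφbc : φ σ * (b * c) = (b * c) * φ σ := by
    rw [← mul_assoc, hφb, mul_assoc, hφc, ← mul_assoc]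
  have hbc3 : (b * c) ^ 3 = 1 := by
    calc (b * c) ^ 3 = (b * c * b) * (c * b * c) := by simp only [pow_succ, pow_zero, one_mul, mul_assoc]
      _ = (b * c * b) * (b * c * b) := by rw [hbc]
      _ = b * c * (b * b) * c * b := by simp only [mul_assoc]
      _ = b * (c * c) * b := by rw [hb, mul_one]; simp only [mul_assoc]
      _ = 1 := by rw [hc, mul_one, hb]
  have hσ' : φ σ ^ m = 1 := by rw [← map_pow, hσ, map_one]
  have h1 : φ σ ∈ S := left_mem_of_pow S hφbc hσ' hbc3 hm hYS
  have h2 : b * c ∈ S := right_mem_of_pow S hφbc hσ' hbc3 hm hYS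
  have hbi : b⁻¹ = b := inv_eq_of_mul_eq_one_left hb
  have hci : c⁻¹ = c := inv_eq_of_mul_eq_one_left hc
  have hai : a⁻¹ = a := inv_eq_of_mul_eq_one_left ha
  have hb0 : p 0 * b = b * p 0 := hbp 0 (by omega)
  have hc0 : p 0 * c = c * p 0 := hcp 0 (by omega)
  have h00 : p 0 * p 0 = 1 := hsq 0 (by omega)
  -- `X * X ^ (b * c) = b * c * b * a`
  have h3 : X * ((b * c)⁻¹ * X * (b * c)) = b * c * (b * a) := by
    have e1 : (b * c)⁻¹ * X * (b * c) = (c * (b * a * b) * c) * p 0 := by
      rw [hX, mul_inv_rev, hbi, hci]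
      calc c * b * (a * p 0) * (b * c) = c * b * a * (p 0 * b) * c := by simp only [mul_assoc]
        _ = c * b * a * b * (p 0 * c) := by rw [hb0]; simp only [mul_assoc]
        _ = (c * (b * a * b) * c) * p 0 := by rw [hc0]; simp only [mul_assoc]
    have e2 : c * (b * a * b) * c = a * (c * b * c) * a := by
      rw [← hab]
      calc c * (a * b * a) * c = (c * a) * b * (a * c) := by simp only [mul_assoc]
        _ = (a * c) * b * (c * a) := by rw [hac]
        _ = a * (c * b * c) * a := by simp only [mul_assoc]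
    rw [e1, e2, ← hbc, hX]
    calc a * p 0 * (a * (b * c * b) * a * p 0) = a * (p 0 * a) * (b * c * b * a) * p 0 := by
          simp only [mul_assoc]
      _ = (a * a) * p 0 * (b * c * b * a) * p 0 := by rw [← hap]; simp only [mul_assoc]
      _ = (p 0 * b) * c * b * a * p 0 := by rw [ha, one_mul]; simp only [mul_assoc]
      _ = b * (p 0 * c) * b * a * p 0 := by rw [hb0]; simp only [mul_assoc]
      _ = b * c * (p 0 * b) * a * p 0 := by rw [hc0]; simp only [mul_assoc]
      _ = b * c * b * (p 0 * a) * p 0 := by rw [hb0]; simp only [mul_assoc]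
      _ = b * c * b * a * (p 0 * p 0) := by rw [← hap]; simp only [mul_assoc]
      _ = b * c * (b * a) := by rw [h00, mul_one]; simp only [mul_assoc]
  have h4 : b * a ∈ S := by
    have h5 : b * c * (b * a) ∈ S := by
      rw [← h3]
      exact S.mul_mem hXS (S.mul_mem (S.mul_mem (S.inv_mem h2) hXS) h2)
    have h6 := S.mul_mem (S.inv_mem h2) h5
    rwa [inv_mul_cancel_left] at h6
  have h5 : a * c ∈ S := by
    have h6 := S.mul_mem (S.inv_mem h4) h2
    rwa [mul_inv_rev, hai, hbi, mul_assoc, ← mul_assoc b b c, hb, one_mul] at h6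
  have h6 : p 0 * c ∈ S := by
    have h7 := S.mul_mem (S.inv_mem h5) hXS
    rwa [mul_inv_rev, hai, hci, hX, mul_assoc, ← mul_assoc a a, ha, one_mul, ← hc0] at h7
  refine ⟨h5, h2, ?_⟩
  -- the transpositions `(0 i+1)`
  have h7 : ∀ i, ∀ hi : i < n, φ (swap (0 : Fin (n + 1)) ⟨i + 1, by omega⟩) * c ∈ S := by
    intro i
    induction i with
    | zero =>
      intro hi
      have h8 := hφ ⟨0, hi⟩
      have h9 : swap (Fin.castSucc ⟨0, hi⟩) (Fin.succ ⟨0, hi⟩) = swap (0 : Fin (n + 1)) ⟨0 + 1, by omega⟩ := rfl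
      rw [h9] at h8
      rw [h8]
      exact h6
    | succ i ih =>
      intro hi
      have h8 := ih (by omega)
      have h9 : σ * swap (0 : Fin (n + 1)) ⟨i + 1, by omega⟩ * σ⁻¹ = swap (0 : Fin (n + 1)) ⟨i + 1 + 1, by omega⟩ := by
        rw [← Equiv.swap_apply_apply]
        have e0 : σ 0 = 0 := by
          have e1 : finRotate (n + 1) 0 = ⟨1, by omega⟩ := by
            apply Fin.ext
            rw [finRotate_apply]
            rw [Fin.val_add_one_of_lt (by simp only [Fin.lt_def, Fin.val_zero, Fin.val_last]; omega)]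
            rfl
          rw [hσd, Equiv.Perm.mul_apply, e1, swap_apply_right]
        have e2 : σ ⟨i + 1, by omega⟩ = ⟨i + 1 + 1, by omega⟩ := by
          have e1 : finRotate (n + 1) ⟨i + 1, by omega⟩ = ⟨i + 1 + 1, by omega⟩ := by
            apply Fin.ext
            rw [finRotate_apply]
            rw [Fin.val_add_one_of_lt (by simp only [Fin.lt_def, Fin.val_last]; omega)]
          rw [hσd, Equiv.Perm.mul_apply, e1, swap_apply_of_ne_of_ne]
          · intro h; have := congrArg Fin.val h; simp at this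
          · intro h; have := congrArg Fin.val h; simp at this
        rw [e0, e2]
      have h10 : φ (swap (0 : Fin (n + 1)) ⟨i + 1 + 1, by omega⟩) * c =
          φ σ * (φ (swap (0 : Fin (n + 1)) ⟨i + 1, by omega⟩) * c) * (φ σ)⁻¹ := by
        have e1 : c * (φ σ)⁻¹ = (φ σ)⁻¹ * c := by rw [← map_inv, hφc]
        rw [← h9, map_mul, map_mul, map_inv]
        simp only [mul_assoc]
        rw [e1]
      rw [h10]
      exact S.mul_mem (S.mul_mem h1 h8) (S.inv_mem h1)
  intro i hi
  rcases i with _ | i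
  · exact h6
  · have h8 := h7 i (by omega)
    have h9 := h7 (i + 1) hi
    have h10 := S.mul_mem (S.mul_mem h8 h9) h8
    have h11 := hφ ⟨i + 1, hi⟩
    have h12 : swap (0 : Fin (n + 1)) ⟨i + 1, by omega⟩ * swap (0 : Fin (n + 1)) ⟨i + 1 + 1, by omega⟩ *
        swap (0 : Fin (n + 1)) ⟨i + 1, by omega⟩ = swap (Fin.castSucc ⟨i + 1, hi⟩) (Fin.succ ⟨i + 1, hi⟩) := by
      have h13 := swap_mul_swap_mul_swap (x := (⟨i + 1 + 1, by omega⟩ : Fin (n + 1)))
        (y := (0 : Fin (n + 1))) (z := ⟨i + 1, by omega⟩)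
        (by intro h; have := congrArg Fin.val h; simp at this) (by intro h; have := congrArg Fin.val h; simp at this)
      rw [swap_comm (⟨i + 1 + 1, by omega⟩ : Fin (n + 1)) 0] at h13
      exact h13
    rw [← h12, map_mul, map_mul] at h11
    rw [← h11]
    have e1 : ∀ g g' : Perm (Fin (n + 1)), (φ g * c) * (φ g' * c) * (φ g * c) = φ g * φ g' * φ g * c := by
      intro g g'
      calc (φ g * c) * (φ g' * c) * (φ g * c) = φ g * (c * φ g') * c * (φ g * c) := by simp only [mul_assoc]
        _ = φ g * φ g' * (c * c) * (φ g * c) := by rw [← hφc g']; simp only [mul_assoc]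
        _ = φ g * φ g' * φ g * c := by rw [hc, mul_one]; simp only [mul_assoc]
    rw [e1] at h10
    exact h10

/-- A subgroup of a non-commutative simple group containing `x * c` for all `x` in a generating set of involutions
(containing `c`) is the whole group. -/
theorem full [IsSimpleGroup G] (hna : ¬ IsMulCommutative G) {N : Set G} (hN : closure N = ⊤)
    (h2 : ∀ x ∈ N, x * x = 1) {c : G} (hc : c ∈ N) (S : Subgroup G) (hS : ∀ x ∈ N, x * c ∈ S) : S = ⊤ := by
  set E : Subgroup G := closure ((fun x => x * c) '' N) with hE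
  have hES : E ≤ S := by
    rw [hE, closure_le]
    rintro _ ⟨x, hx, rfl⟩
    exact hS x hx
  have hinv : ∀ x ∈ N, x⁻¹ = x := fun x hx => inv_eq_of_mul_eq_one_left (h2 x hx)
  have hmem : ∀ x ∈ N, x * c ∈ E := fun x hx => subset_closure ⟨x, hx, rfl⟩
  have h3 : ∀ y ∈ N, ∀ g ∈ E, y * g * y⁻¹ ∈ E := by
    intro y hy g hg
    induction hg using closure_induction with
    | mem z hz =>
      obtain ⟨x, hx, rfl⟩ := hz
      have h4 : y * (x * c) * y⁻¹ = (y * c) * (x * c)⁻¹ * (y * c)⁻¹ := by
        rw [mul_inv_rev, mul_inv_rev, hinv x hx, hinv c hc, hinv y hy]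
        calc y * (x * c) * y = y * x * c * y := by simp only [mul_assoc]
          _ = y * (c * c) * x * c * y := by rw [h2 c hc, mul_one]
          _ = y * c * (c * x) * (c * y) := by simp only [mul_assoc]
      show y * (x * c) * y⁻¹ ∈ E
      rw [h4]
      exact E.mul_mem (E.mul_mem (hmem y hy) (E.inv_mem (hmem x hx))) (E.inv_mem (hmem y hy))
    | one => rw [mul_one, mul_inv_cancel]; exact E.one_mem
    | mul u v _ _ hu hv =>
      have h4 : y * (u * v) * y⁻¹ = (y * u * y⁻¹) * (y * v * y⁻¹) := by group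
      rw [h4]
      exact E.mul_mem hu hv
    | inv u _ hu =>
      have h4 : y * u⁻¹ * y⁻¹ = (y * u * y⁻¹)⁻¹ := by group
      rw [h4]
      exact E.inv_mem hu
  have hnor : E.Normal := by
    refine ⟨fun g hg x => ?_⟩
    have hx : x ∈ closure N := by rw [hN]; trivial
    revert g
    induction hx using closure_induction'' with
    | mem y hy => exact fun g hg => h3 y hy g hg
    | inv_mem y hy => intro g hg; rw [hinv y hy]; exact h3 y hy g hg
    | one => intro g hg; rw [one_mul, inv_one, mul_one]; exact hg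
    | mul u v _ _ hu hv =>
      intro g hg
      have h4 : u * v * g * (u * v)⁻¹ = u * (v * g * v⁻¹) * u⁻¹ := by group
      rw [h4]
      exact hu _ (hv g hg)
  rcases hnor.eq_bot_or_eq_top with h | h
  · exfalso
    have h4 : ∀ x ∈ N, x = c := by
      intro x hx
      have h5 := hmem x hx
      rw [h, mem_bot] at h5
      rw [← hinv c hc]
      exact eq_inv_of_mul_eq_one_left h5
    have h5 : zpowers c = ⊤ := by
      rw [eq_top_iff, ← hN, closure_le]
      intro x hx
      rw [h4 x hx]
      exact mem_zpowers c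
    have h6 : IsCyclic G := ⟨c, fun x => show x ∈ zpowers c by rw [h5]; trivial⟩
    exact hna IsCyclic.isMulCommutative
  · rw [eq_top_iff, ← h]
    exact hES

/-- The conclusion for a non-commutative simple group. -/
theorem exists_pair [IsSimpleGroup G] (hna : ¬ IsMulCommutative G) {n : ℕ} (hn : 2 ≤ n) (p : ℕ → G)
    (hsq : ∀ i < n, p i * p i = 1)
    (hbr : ∀ i, i + 1 < n → p i * p (i + 1) * p i = p (i + 1) * p i * p (i + 1))
    (hcm : ∀ i j, i + 1 < j → j < n → p i * p j = p j * p i)
    {a b c : G} (ha : a * a = 1) (hb : b * b = 1) (hc : c * c = 1)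
    (hab : a * b * a = b * a * b) (hbc : b * c * b = c * b * c) (hac : a * c = c * a)
    (hbp : ∀ i < n, p i * b = b * p i) (hcp : ∀ i < n, p i * c = c * p i) (hap : a * p 0 = p 0 * a)
    {m : ℕ} (hm : Nat.Coprime m 3)
    (hσ : (swap (0 : Fin (n + 1)) ⟨1, by omega⟩ * finRotate (n + 1)) ^ m = 1)
    (hgen : ∀ S : Subgroup G, a ∈ S → b ∈ S → c ∈ S → (∀ i < n, p i ∈ S) → S = ⊤) :
    ∃ X Y : G, X ^ 2 = 1 ∧ X ≠ 1 ∧ closure ({X, Y} : Set G) = ⊤ := by
  obtain ⟨Y, h1, h2, h3⟩ := core hn p hsq hbr hcm ha hb hc hab hbc hac hbp hcp hap hm hσ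
  have h4 : closure ({a * p 0, Y} : Set G) = ⊤ := by
    refine full hna (N := {a, b, c} ∪ {x | ∃ i < n, x = p i}) ?_ ?_ (c := c) (Or.inl (by simp)) _ ?_
    · apply hgen
      · exact subset_closure (Or.inl (by simp))
      · exact subset_closure (Or.inl (by simp))
      · exact subset_closure (Or.inl (by simp))
      · exact fun i hi => subset_closure (Or.inr ⟨i, hi, rfl⟩)
    · rintro x ((rfl | rfl | rfl) | ⟨i, hi, rfl⟩)
      · exact ha
      · exact hb
      · exact hc
      · exact hsq i hi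
    · rintro x ((rfl | rfl | rfl) | ⟨i, hi, rfl⟩)
      · exact h1
      · exact h2
      · rw [hc]; exact one_mem _
      · exact h3 i hi
  refine ⟨a * p 0, Y, ?_, ?_, h4⟩
  · rw [pow_two]
    calc a * p 0 * (a * p 0) = a * (p 0 * a) * p 0 := by simp only [mul_assoc]
      _ = (a * a) * (p 0 * p 0) := by rw [← hap]; simp only [mul_assoc]
      _ = 1 := by rw [ha, hsq 0 (by omega), one_mul]
  · intro h
    rw [h] at h4
    apply hna
    have h5 : zpowers Y = ⊤ := by
      rw [eq_top_iff, ← h4, closure_le]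
      rintro x (rfl | rfl)
      · exact one_mem _
      · exact mem_zpowers _
    have h6 : IsCyclic G := ⟨Y, fun x => show x ∈ zpowers Y by rw [h5]; trivial⟩
    exact IsCyclic.isMulCommutative

end Cfsg.Agent.H261.DG.InvGen
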